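import Cfsg.Agent.Lib.Lin1.Field
import Cfsg.Agent.Lib.Coprime.Hall
import Cfsg.Agent.Lib.Transfer.Camina

/-!
Solvable linear groups of odd order transitive on the one-dimensional subspaces.
-/

set_option autoImplicit false

namespace Cfsg.Agent.Lin1

open Subgroup Module MulAction
open scoped commutatorElement

variable {k H V : Type*} [Field k] [Group H] [AddCommGroup V] [Module k V] {ρ : H →* End k V}
  [Finite V] [Finite H] [Nontrivial V]

theorem PT.card_dvd (hT : PT ρ) (inj : Function.Injective ρ) {B : Subgroup H} [B.Normal]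
    (hB : IsMulCommutative B) {r : ℕ} (h : ∀ b ∈ B, b ^ r = 1) : Nat.card B ∣ r := by
  have := hT.isCyclic inj hB
  rw [← IsCyclic.exponent_eq_card]
  exact Monoid.exponent_dvd_of_forall_pow_eq_one fun b => Subtype.ext (h b b.2)

omit [Finite V] [Nontrivial V] in
theorem PT.card_stab_le (hT : PT ρ) (E : Subgroup H) [hn : E.Normal] {v w : V} (hv : v ≠ 0)
    (hw : w ≠ 0) : Nat.card {g : E // ρ g v = v} ≤ Nat.card {g : E // ρ g w = w} := by
  obtain ⟨h, c, e1, -⟩ := hT.exists_inv hv hw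
  refine Nat.card_le_card_of_injective (fun g => ⟨⟨h * g.1 * h⁻¹, hn.conj_mem _ g.1.2 h⟩, ?_⟩)
    fun a b e => Subtype.ext (Subtype.ext (by simpa using e))
  rw [map_mul, map_mul, End.mul_apply, End.mul_apply, e1, map_smul, g.2, ← e1, apply_inv]

theorem PT.isCyclic_of_isPGroup (hT : PT ρ) (inj : Function.Injective ρ) {r : ℕ} [hr : Fact r.Prime]
    (h2 : r ≠ 2) (hk : (r : k) ≠ 0) {R : Subgroup H} [hn : R.Normal] (hR : IsPGroup r R) :
    IsCyclic R := by
  by_contra hc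
  let Z : Subgroup H :=
    { carrier := {g | g ∈ R ⊓ centralizer (R : Set H) ∧ g ^ r = 1}
      mul_mem' := fun {a b} ha hb => ⟨mul_mem ha.1 hb.1, by
        rw [(show Commute a b from hb.1.2 a ha.1.1).mul_pow, ha.2, hb.2, one_mul]⟩
      one_mem' := ⟨one_mem _, one_pow r⟩
      inv_mem' := fun ha => ⟨inv_mem ha.1, by rw [inv_pow, ha.2, inv_one]⟩ }
  have hZn : Z.Normal := ⟨fun a ha g => ⟨Normal.conj_mem inferInstance a ha.1 g, by
    rw [conj_pow, ha.2, mul_one, mul_inv_cancel]⟩⟩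
  have cm : ∀ z ∈ Z, ∀ g ∈ R, Commute z g := fun z hz g hg => (hz.1.2 g hg).symm
  let E : Subgroup H :=
    { carrier := {g | g ∈ R ∧ (∀ y ∈ R, ⁅y, g⁆ ∈ Z) ∧ g ^ r = 1}
      mul_mem' := fun {a b} ha hb => ⟨mul_mem ha.1 hb.1, fun y hy => by
        rw [show ⁅y, a * b⁆ = ⁅y, a⁆ * (a * ⁅y, b⁆ * a⁻¹) by
          simp only [commutatorElement_def]; group]
        exact mul_mem (ha.2.1 y hy) (hZn.conj_mem _ (hb.2.1 y hy) a), by
        have := ha.2.1 b hb.1
        rw [PGrp.mul_pow_of_odd (hr.out.odd_of_ne_two h2) (cm _ this a ha.1) (cm _ this b hb.1)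
          this.2, ha.2.2, hb.2.2, one_mul]⟩
      one_mem' := ⟨one_mem _, fun y _ => by simp, one_pow r⟩
      inv_mem' := fun {a} ha => ⟨inv_mem ha.1, fun y hy => by
        rw [show ⁅y, a⁻¹⁆ = a⁻¹ * ⁅y, a⁆⁻¹ * a⁻¹⁻¹ by simp only [commutatorElement_def]; group]
        exact hZn.conj_mem _ (inv_mem (ha.2.1 y hy)) _, by rw [inv_pow, ha.2.2, inv_one]⟩ }
  have hEn : E.Normal := ⟨fun a ha g => ⟨hn.conj_mem a ha.1 g, fun y hy => by
    rw [show ⁅y, g * a * g⁻¹⁆ = g * ⁅g⁻¹ * y * g⁻¹⁻¹, a⁆ * g⁻¹ by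
      simp only [commutatorElement_def]; group]
    exact hZn.conj_mem _ (ha.2.1 _ (hn.conj_mem y hy _)) g, by
    rw [conj_pow, ha.2.2, mul_one, mul_inv_cancel]⟩⟩
  have hZE : Z ≤ E := fun z hz => ⟨hz.1.1, fun y hy => by
    rw [commutatorElement_eq_one_iff_commute.2 (cm z hz y hy).symm]; exact one_mem _, hz.2⟩
  have hZc : IsMulCommutative Z :=
    PGrp.isMulCommutative_iff_mem.2 fun a ha b hb => cm a ha b hb.1.1
  have hZ1 := hT.card_dvd inj hZc fun b hb => hb.2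
  have hEZ : ¬ E ≤ Z := fun hle => by
    obtain ⟨U, hU, h3, h4⟩ := PGrp.exists_normal_elemAb_of_odd hR h2 hc
    have h5 := PGrp.le_center_of_card_le_prime hR
      ((PGrp.commutator_top_card_le hR h4).trans (pow_one r).le)
    have h6 : U.map R.subtype ≤ E := by
      rintro _ ⟨u, hu, rfl⟩
      refine ⟨u.2, fun y hy => ?_, congrArg Subtype.val (h3.2 u hu)⟩
      have h7 : ⁅(⟨y, hy⟩ : R), u⁆ ∈ ⁅U, ⊤⁆ :=
        commutator_comm U ⊤ ▸ commutator_mem_commutator (mem_top _) hu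
      exact ⟨⟨(⁅(⟨y, hy⟩ : R), u⁆).2, fun g hg =>
        congrArg Subtype.val (mem_center_iff.1 (h5 h7) ⟨g, hg⟩)⟩,
        congrArg Subtype.val (h3.2 _ (commutator_le_left U ⊤ h7))⟩
    have h7 := (card_le_of_le (h6.trans hle)).trans (Nat.le_of_dvd hr.out.pos hZ1)
    rw [card_subtype, h4] at h7
    have := hr.out.two_le
    nlinarith
  have hZ : Nat.card Z = r := ((Nat.dvd_prime hr.out).1 hZ1).resolve_left fun e => hEZ fun g hg =>
    ⟨⟨hg.1, fun y hy => commutatorElement_eq_one_iff_mul_comm.1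
      (mem_bot.1 (eq_bot_of_card_eq Z e ▸ hg.2.1 y hy))⟩, hg.2.2⟩
  have hC : Z = E ⊓ centralizer (E : Set H) := eq_of_le_of_card_ge
    (fun z hz => ⟨hZE hz, fun g hg => (cm z hz g hg.1).symm⟩)
    ((Nat.le_of_dvd hr.out.pos (hT.card_dvd (B := E ⊓ centralizer (E : Set H)) inj
      (PGrp.isMulCommutative_iff_mem.2 fun a ha b hb => hb.2 a ha.1)
      fun b hb => hb.1.2.2)).trans hZ.ge)
  letI : DistribMulAction E V := DistribMulAction.compHom V (ρ.comp E.subtype)
  obtain ⟨v₀, hv₀⟩ := exists_ne (0 : V)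
  refine false_of_count (E := E) (V := V) hr.out h2 (Z := Z.subgroupOf E)
    ((Nat.card_congr (subgroupOfEquivOfLe hZE).toEquiv).trans hZ)
    (fun z hz => mem_center_iff.2 fun g => Subtype.ext (cm z hz g g.2.1).symm)
    (fun w hw v e => or_iff_not_imp_right.2 fun hv => Subtype.ext (hT.semireg inj hZc hw hv e))
    (fun g u => u.2.2.1 g g.2.1) (fun u hu => ?_) (fun u => Subtype.ext u.2.2.2)
    (mt subgroupOf_eq_top.1 hEZ) ⟨v₀, ?_⟩ (s := Nat.card {g : E // ρ g v₀ = v₀})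
    fun v hv => le_antisymm (hT.card_stab_le E hv hv₀) (hT.card_stab_le E hv₀ hv)
  · by_contra! h
    exact hu (hC.ge ⟨u.2, fun g hg =>
      congrArg Subtype.val (commutatorElement_eq_one_iff_mul_comm.1 (h ⟨g, hg⟩))⟩)
  · rw [← Nat.cast_smul_eq_nsmul k]
    exact smul_ne_zero hk hv₀

theorem PT.isCyclic_fitting (hT : PT ρ) (inj : Function.Injective ρ) (ho : Odd (Nat.card H))
    (hk : (Nat.card H : k) ≠ 0) : IsCyclic (fittingSubgroup H) := by
  have := Core.isNilpotent_fitting (G := H)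
  have : IsZGroup (fittingSubgroup H) := ⟨fun r hr P => ?_⟩
  · infer_instance
  have := Fact.mk hr
  by_cases hd : r ∣ Nat.card H
  · have := hT.isCyclic_of_isPGroup inj (r := r) (by rintro rfl; exact ho.not_two_dvd_nat hd)
      (fun e => hk (by obtain ⟨m, hm⟩ := hd; rw [hm, Nat.cast_mul, e, zero_mul]))
      (Core.isPGroup_pCore (G := H) (p := r))
    have := isCyclic_of_le (Core.le_pCore_of_le_fitting (P.isPGroup'.map _) (map_subtype_le _))
    exact isCyclic_of_surjective _ (equivMapOfInjective _ _ (subtype_injective _)).symm.surjective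
  · have : Subsingleton P := by
      rw [← Finite.card_le_one_iff_subsingleton, P.card_eq_multiplicity,
        Nat.factorization_eq_zero_of_not_dvd fun e => hd (e.trans (card_subgroup_dvd_card _)),
        pow_zero]
    infer_instance

omit [Finite H] [Nontrivial V] in
theorem orbit_eq (tr : ∀ v w : V, v ≠ 0 → w ≠ 0 → ∃ h : H, ρ h v = w) {v : V} (hv : v ≠ 0) :
    (letI : MulAction H V := MulAction.compHom V ρ; orbit H v).ncard = Nat.card V - 1 := by
  rw [← Set.ncard_univ, ← Set.ncard_diff_singleton_of_mem (Set.mem_univ 0)]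
  congr 1
  ext w
  refine ⟨?_, fun hw => tr v w hv hw.2⟩
  rintro ⟨h, rfl⟩
  exact ⟨trivial, fun e => hv (by rw [← inv_apply (ρ := ρ) h v, show ρ h v = 0 from e, map_zero])⟩

theorem exists_semireg_of_injective [Group.IsSolvable H] (inj : Function.Injective ρ)
    (ho : Odd (Nat.card H)) (hk : (Nat.card H : k) ≠ 0)
    (tr : ∀ v w : V, v ≠ 0 → w ≠ 0 → ∃ h : H, ρ h v = w) : ∃ b : H,
      (∀ (j : ℕ) (v : V), v ≠ 0 → ρ (b ^ j) v = v → orderOf b ∣ j) ∧
      orderOf b ∣ Nat.card V - 1 ∧ Nat.card V - 1 ∣ orderOf b * finrank k V := by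
  have hT : PT ρ := fun v w hv hw => (tr v w hv hw).imp fun h e => ⟨1, by rw [e, one_smul]⟩
  have hc := hT.isCyclic_fitting inj ho hk
  have hc' : IsMulCommutative (fittingSubgroup H) := inferInstance
  obtain ⟨b, hb⟩ := (Subgroup.isCyclic_iff_exists_zpowers_eq_top _).1 hc
  refine ⟨b, fun j v hv e => orderOf_dvd_of_pow_eq_one
    (hT.semireg inj hc' (hb ▸ pow_mem (mem_zpowers b) j) hv e),
    hT.orderOf_dvd inj hc' (hb ▸ mem_zpowers b), ?_⟩
  have h1 := hT.index_dvd inj hc'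
  rw [le_antisymm Core.centralizer_fitting_le (le_centralizer _)] at h1
  refine Dvd.dvd.trans ?_ (Nat.mul_dvd_mul_left _ h1)
  rw [← Nat.card_zpowers, hb, card_mul_index]
  letI : MulAction H V := MulAction.compHom V ρ
  obtain ⟨v, hv⟩ := exists_ne (0 : V)
  rw [← orbit_eq tr hv, ← index_stabilizer]
  exact index_dvd_card _

theorem exists_semireg [Group.IsSolvable H] (ho : Odd (Nat.card H)) (hk : (Nat.card H : k) ≠ 0)
    (tr : ∀ v w : V, v ≠ 0 → w ≠ 0 → ∃ h : H, ρ h v = w) : ∃ (b : H) (d : ℕ), ρ b ^ d = 1 ∧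
      (∀ (j : ℕ) (v : V), v ≠ 0 → (ρ b ^ j) v = v → d ∣ j) ∧ d ∣ Nat.card V - 1 ∧
      Nat.card V - 1 ∣ d * finrank k V := by
  have hd := card_quotient_dvd_card ρ.ker
  obtain ⟨b, h1, h2⟩ := exists_semireg_of_injective (ρ := QuotientGroup.lift ρ.ker ρ le_rfl)
    ((QuotientGroup.injective_lift_iff _ _ _).2 rfl)
    (ho.of_dvd_nat hd) (fun e => hk (by obtain ⟨m, hm⟩ := hd; rw [hm, Nat.cast_mul, e, zero_mul]))
    fun v w hv hw => (tr v w hv hw).elim fun h e => ⟨h, e⟩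
  obtain ⟨b, rfl⟩ := QuotientGroup.mk_surjective b
  refine ⟨b, _, ?_, fun j v hv e => h1 j v hv (by rwa [map_pow]), h2⟩
  rw [← QuotientGroup.lift_mk ρ.ker le_rfl b, ← map_pow, pow_orderOf_eq_one, map_one]

/-- In characteristic two a Hall `2'`-subgroup is still transitive. -/
theorem exists_semireg_two [Group.IsSolvable H] (h2 : (2 : k) = 0) (hV : Even (Nat.card V))
    (tr : ∀ v w : V, v ≠ 0 → w ≠ 0 → ∃ h : H, ρ h v = w) : ∃ (b : H) (d : ℕ), Odd (orderOf b) ∧
      ρ b ^ d = 1 ∧ (∀ (j : ℕ) (v : V), v ≠ 0 → (ρ b ^ j) v = v → d ∣ j) ∧ d ∣ Nat.card V - 1 ∧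
      Nat.card V - 1 ∣ d * finrank k V := by
  obtain ⟨K, h3, h4⟩ := Coprime.hall_exists {2}ᶜ ‹Group.IsSolvable H›
  have ho : Odd (Nat.card K) := Nat.coprime_two_left.1
    (Nat.prime_two.coprime_iff_not_dvd.2 fun e => h3 2 Nat.prime_two e rfl)
  obtain ⟨b, d, h⟩ := exists_semireg (ρ := ρ.comp K.subtype) ho (by
    obtain ⟨m, hm⟩ := ho
    simp [hm, h2]) fun v w hv hw => by
    letI : MulAction H V := MulAction.compHom V ρ
    obtain ⟨g, rfl⟩ := tr v w hv hw
    obtain ⟨a, ha, b, hb, rfl⟩ := Transfer.exists_mul_of_coprime_index (H := K)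
      (K := stabilizer H v) (Nat.coprime_of_dvd fun r hr h5 h6 => by
        obtain rfl : r = 2 := by_contra fun e => h4 r hr e h5
        rw [index_stabilizer, orbit_eq tr hv] at h6
        exact (Nat.Even.sub_odd Nat.card_pos hV odd_one).not_two_dvd_nat h6) g
    exact ⟨⟨a, ha⟩, by rw [map_mul, End.mul_apply, show ρ b v = v from hb]; rfl⟩
  exact ⟨b, d, orderOf_coe b ▸ ho.of_dvd_nat (orderOf_dvd_natCard b), h⟩

end Cfsg.Agent.Lin1
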