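import Mathlib

/-!
A counting argument: an extraspecial group of odd prime exponent whose centre acts freely on the
nonzero vectors cannot have all stabilizers of nonzero vectors of the same order.
-/

set_option autoImplicit false

namespace Cfsg.Agent.Lin1

open Subgroup MulAction Finset
open scoped commutatorElement

variable {E V : Type*} [Group E] [AddCommGroup V] [DistribMulAction E V]

theorem exists_fixed [Finite E] {r : ℕ} (hr : r.Prime) {Z : Subgroup E} (hZ : Nat.card Z = r)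
    (cen : Z ≤ center E) (free : ∀ w ∈ Z, ∀ v : V, w • v = v → w = 1 ∨ v = 0)
    (exp : ∀ u : E, u ^ r = 1) (u : E) {v : V} (hv : r • v ≠ 0) :
    ∃ w ∈ Z, ∃ v : V, v ≠ 0 ∧ (u * w) • v = v := by
  classical
  have := Fintype.ofFinite Z
  have cm : ∀ w : Z, ∀ g : E, Commute g w := fun w g => mem_center_iff.1 (cen w.2) g
  have h1 : ∑ w : Z, ∑ j ∈ range r, (u * w) ^ j • v = r • v := by
    rw [sum_comm, sum_eq_single_of_mem 0 (mem_range.2 hr.pos)]
    · simp [← hZ]
    intro j hj hj0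
    have : Nontrivial Z := Finite.one_lt_card_iff_nontrivial.1 (hZ ▸ hr.one_lt)
    obtain ⟨w₀, hw₀⟩ := exists_ne (1 : Z)
    have h2 : (w₀ : E) ^ j • ∑ w : Z, (w : E) ^ j • v = ∑ w : Z, (w : E) ^ j • v := by
      rw [smul_sum]
      refine Fintype.sum_equiv (Equiv.mulLeft w₀) _ _ fun w => ?_
      rw [Equiv.coe_mulLeft, Subgroup.coe_mul, (cm w w₀).mul_pow, mul_smul]
    have h3 := (free _ (pow_mem w₀.2 j) _ h2).resolve_left fun e => by
      have := Fact.mk hr
      have h4 := orderOf_eq_prime (exp w₀) fun e => hw₀ (Subtype.ext e)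
      exact Nat.not_dvd_of_pos_of_lt (Nat.pos_of_ne_zero hj0) (mem_range.1 hj)
        (h4 ▸ orderOf_dvd_of_pow_eq_one e)
    simp only [(cm _ u).mul_pow, mul_smul]
    rw [← smul_sum, h3, smul_zero]
  obtain ⟨w, -, hw⟩ := exists_ne_zero_of_sum_ne_zero (h1 ▸ hv)
  refine ⟨w, w.2, _, hw, ?_⟩
  obtain ⟨k, rfl⟩ := Nat.exists_eq_succ_of_ne_zero hr.ne_zero
  rw [smul_sum]
  simp only [← mul_smul, ← pow_succ']
  rw [sum_range_succ, sum_range_succ', exp, pow_zero]

theorem indep {u w : E} (hc : Commute u w) (f1 : ∀ v : V, w • v = v → v = 0)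
    (f2 : ∀ v : V, (w * w) • v = v → v = 0) {a b c : V} (ha : u • a = a) (hb : (w * u) • b = b)
    (hc' : (w * w * u) • c = c) (h : a + b + c = 0) : a = 0 ∧ b = 0 ∧ c = 0 := by
  have h1 : (w * w) • a + w • b + c = 0 := by
    have := congrArg ((w * w * u) • ·) h
    simp only [smul_add, smul_zero, hc'] at this
    rwa [mul_smul _ u, ha, mul_assoc, mul_smul w (w * u), hb] at this
  have h2 : (w * w) • a - a = b - w • b := by linear_combination (norm := abel1) h1 - h
  have h3 : u • ((w * w) • a - a) = (w * w) • a - a := by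
    rw [smul_sub, ← mul_smul, (hc.mul_right hc).eq, mul_smul, ha]
  have h4 : (w * u) • (b - w • b) = b - w • b := by
    rw [smul_sub, hb, ← mul_smul, mul_assoc, hc.eq, mul_smul w (w * u), hb]
  rw [← h2, mul_smul, h3] at h4
  have h5 := f1 _ h4
  have h6 := f2 a (sub_eq_zero.1 h5)
  have h7 := f1 b (sub_eq_zero.1 (h2 ▸ h5)).symm
  exact ⟨h6, h7, by simpa [h6, h7] using h⟩

theorem false_of_count [Finite E] [Finite V] {r : ℕ} (hr : r.Prime) (h2 : r ≠ 2) {Z : Subgroup E}
    (hZ : Nat.card Z = r) (cen : Z ≤ center E)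
    (free : ∀ w ∈ Z, ∀ v : V, w • v = v → w = 1 ∨ v = 0) (com : ∀ g u : E, ⁅g, u⁆ ∈ Z)
    (nc : ∀ u ∉ Z, ∃ g : E, ⁅g, u⁆ ≠ 1) (exp : ∀ u : E, u ^ r = 1) (ne : Z ≠ ⊤)
    (tor : ∃ v : V, r • v ≠ 0) {s : ℕ} (stab : ∀ v : V, v ≠ 0 → Nat.card (stabilizer E v) = s) :
    False := by
  classical
  have := Fintype.ofFinite E
  have := Fintype.ofFinite V
  have := Fact.mk hr
  have h3 : 3 ≤ r := by have := hr.two_le; omega
  let F : E → Finset V := fun u => univ.filter fun v => v ≠ 0 ∧ u • v = v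
  have hF : ∀ u v, v ∈ F u ↔ v ≠ 0 ∧ u • v = v := fun u v => by simp [F]
  obtain ⟨u₀, hu₀⟩ : ∃ u, u ∉ Z := by
    by_contra! h
    exact ne (eq_top_iff.2 fun u _ => h u)
  obtain ⟨v₀, hv₀⟩ := tor
  obtain ⟨w₁, hw₁, v₁, hv₁, e₁⟩ := exists_fixed hr hZ cen free exp u₀ hv₀
  have n1 : ∀ u ∉ Z, u ∈ univ.erase (1 : E) := fun u hu => by
    simpa using fun e : u = 1 => hu (e ▸ one_mem Z)
  have m1 := n1 _ (mt (mul_mem_cancel_right hw₁).1 hu₀)
  obtain ⟨u, hu, hmax⟩ := exists_max_image _ (fun u => (F u).card) ⟨_, m1⟩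
  obtain ⟨v, hv⟩ := card_pos.1 ((card_pos.2 ⟨v₁, (hF _ _).2 ⟨hv₁, e₁⟩⟩).trans_le (hmax _ m1))
  set t := (F u).card
  obtain ⟨hv0, hv⟩ := (hF _ _).1 hv
  have hu1 : u ≠ 1 := ne_of_mem_erase hu
  have huZ : u ∉ Z := fun h => (free u h v hv).elim hu1 hv0
  have cm : ∀ w ∈ Z, ∀ g : E, Commute g w := fun w hw g => mem_center_iff.1 (cen hw) g
  have cj : ∀ (g x : E) (a : V), x • a = a → (⁅g, x⁆ * x) • g • a = g • a := fun g x a h => by
    rw [← mul_smul, commutatorElement_def, inv_mul_cancel_right, inv_mul_cancel_right, mul_smul, h]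
  have a1 : r ≤ t := by
    rw [← hZ, Nat.card_eq_fintype_card, ← card_univ]
    refine card_le_card_of_injOn (fun w : Z => (w : E) • v) (fun w _ => ?_) fun w _ w' _ e => ?_
    · exact (hF _ _).2 ⟨(smul_ne_zero_iff_ne _).2 hv0, by
        rw [← mul_smul, (cm _ w.2 u).eq, mul_smul, hv]⟩
    · refine Subtype.ext (inv_mul_eq_one.1 ((free _ (mul_mem (inv_mem w.2) w'.2) v ?_).resolve_right
        hv0))
      rw [mul_smul, inv_smul_eq_iff]
      exact e.symm
  have a2 : r ≤ s := by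
    rw [← stab v hv0, ← orderOf_eq_prime (exp u) hu1, ← Nat.card_zpowers]
    exact card_le_of_le (zpowers_le.2 hv)
  have a3 : Fintype.card E ≤ r * t * s := by
    rw [← Nat.card_eq_fintype_card, ← (stabilizer E v).index_mul_card, stab v hv0, index_stabilizer]
    refine Nat.mul_le_mul_right _ ?_
    have : orbit E v ⊆ ((univ : Finset Z).biUnion fun w => F (w * u) : Finset V) := by
      rintro _ ⟨g, rfl⟩
      exact mem_coe.2 (mem_biUnion.2 ⟨⟨_, com g u⟩, mem_univ _,
        (hF _ _).2 ⟨(smul_ne_zero_iff_ne _).2 hv0, cj g u v hv⟩⟩)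
    refine (Set.ncard_le_ncard this).trans ?_
    rw [Set.ncard_coe_finset, ← hZ, Nat.card_eq_fintype_card, ← card_univ]
    exact card_biUnion_le_card_mul _ _ _ fun w _ =>
      hmax _ (n1 _ (mt (mul_mem_cancel_left w.2).1 huZ))
  have a4 : (t + 1) ^ 3 ≤ Fintype.card V := by
    obtain ⟨g, hg⟩ := nc u huZ
    have hw := com g u
    have f1 : ∀ a : V, ⁅g, u⁆ • a = a → a = 0 := fun a h => (free _ hw a h).resolve_left hg
    have f2 : ∀ a : V, (⁅g, u⁆ * ⁅g, u⁆) • a = a → a = 0 := fun a h =>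
      (free _ (mul_mem hw hw) a h).resolve_left fun e => h2 ((Nat.prime_dvd_prime_iff_eq hr
        Nat.prime_two).1 (orderOf_eq_prime (exp _) hg ▸ orderOf_dvd_of_pow_eq_one ((pow_two _).trans e)))
    have e2 : ⁅g, ⁅g, u⁆ * u⁆ * (⁅g, u⁆ * u) = ⁅g, u⁆ * ⁅g, u⁆ * u := by
      rw [commutatorElement_def g (_ * _), inv_mul_cancel_right, ← mul_assoc, (cm _ hw g).eq,
        mul_assoc _ g, mul_assoc, mul_assoc]
      simp [commutatorElement_def, mul_assoc]
    let F' : Finset V := univ.filter fun v => u • v = v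
    have hF' : F'.card = t + 1 := by
      rw [← card_insert_of_notMem (a := 0) (by simp [hF])]
      congr 1
      ext a
      by_cases h : a = 0 <;> simp [F', hF, h]
    rw [← hF', pow_three, ← card_product, ← card_product, ← card_univ]
    refine card_le_card_of_injOn (fun x => x.1 + g • x.2.1 + g • g • x.2.2) (fun _ _ => by simp) ?_
    rintro ⟨a, b, c⟩ h ⟨a', b', c'⟩ h' e
    simp only [coe_product, Set.mem_prod, F', coe_filter, mem_univ, true_and, Set.mem_setOf_eq]
      at h h'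
    have sb : ∀ {x y : V}, u • x = x → u • y = y → u • (x - y) = x - y := fun h h' => by
      rw [smul_sub, h, h']
    obtain ⟨i1, i2, i3⟩ := indep (cm _ hw u) f1 f2 (sb h.1 h'.1) (cj g u _ (sb h.2.1 h'.2.1))
      (e2 ▸ cj g _ _ (cj g u _ (sb h.2.2 h'.2.2))) (by
        simp only [smul_sub] at e ⊢
        linear_combination (norm := abel1) e)
    simp only [smul_eq_zero_iff_eq, sub_eq_zero] at i1 i2 i3
    rw [i1, i2, i3]
  have a5 : (univ.erase (0 : V)).card * (s - 1) ≤ (univ.erase (1 : E)).card * t := by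
    refine card_mul_le_card_mul (fun v u => u • v = v) (fun a ha => le_of_eq ?_) fun x hx => ?_
    · rw [← stab a (ne_of_mem_erase ha), Nat.card_eq_fintype_card, Fintype.card_subtype,
        ← card_erase_of_mem (a := 1) (by simp)]
      congr 1
      ext x
      simp [bipartiteAbove]
    · refine le_of_eq_of_le ?_ (hmax x hx)
      congr 1
      ext a
      simp [bipartiteBelow, hF]
  rw [card_erase_of_mem (mem_univ _), card_erase_of_mem (mem_univ _), card_univ, card_univ] at a5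
  obtain ⟨s, rfl⟩ : ∃ s', s = s' + 1 := ⟨s - 1, by omega⟩
  rw [Nat.add_sub_cancel] at a5
  have b1 : t * t * (t + 3) + 1 ≤ Fintype.card V - 1 := by
    have : (t + 1) ^ 3 = t * t * (t + 3) + 3 * t + 1 := by ring
    omega
  have b2 : (t * t * (t + 3) + 1) * s ≤ r * t * (s + 1) * t :=
    (Nat.mul_le_mul_right _ b1).trans (a5.trans (Nat.mul_le_mul_right _ (by omega)))
  have b3 : r * (s + 1) ≤ (t + 3) * s := by nlinarith
  have b4 := Nat.mul_le_mul_left (t * t) b3
  nlinarith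

end Cfsg.Agent.Lin1
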