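import Cfsg.Agent.Lib.Lin1.Count
import Cfsg.Agent.Lib.Core.Fitting
import Cfsg.Agent.Lib.PGrp.Symplectic
import Cfsg.Agent.Lib.PGrp.RankOne

/-!
Linear groups over finite fields transitive on the one-dimensional subspaces: abelian normal
subgroups generate a field; normal subgroups of odd prime power order are cyclic.
-/

set_option autoImplicit false

namespace Cfsg.Agent.Lin1

open Subgroup Module
open scoped commutatorElement

variable {k H V : Type*} [Field k] [Group H] [AddCommGroup V] [Module k V]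

/-- transitivity on the one-dimensional subspaces -/
def PT (ρ : H →* End k V) : Prop := ∀ v w : V, v ≠ 0 → w ≠ 0 → ∃ (h : H) (c : k), ρ h v = c • w

variable {ρ : H →* End k V} {B : Subgroup H}

theorem inv_apply (h : H) (v : V) : ρ h⁻¹ (ρ h v) = v := by
  rw [← End.mul_apply, ← map_mul, inv_mul_cancel, map_one, End.one_apply]

theorem apply_inv (h : H) (v : V) : ρ h (ρ h⁻¹ v) = v := by simpa using inv_apply (ρ := ρ) h⁻¹ v

theorem PT.exists_inv (hT : PT ρ) {v w : V} (hv : v ≠ 0) (hw : w ≠ 0) :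
    ∃ (h : H) (c : k), ρ h⁻¹ w = c • v ∧ ∃ c' : k, ρ h v = c' • w := by
  obtain ⟨h, c, e⟩ := hT v w hv hw
  have hc : c ≠ 0 := by
    rintro rfl
    exact hv (by rw [← inv_apply (ρ := ρ) h v, e, zero_smul, map_zero])
  exact ⟨h, c⁻¹, by rw [← inv_apply (ρ := ρ) h v, e, map_smul, inv_smul_smul₀ hc], c, e⟩

theorem PT.eq_zero [Finite V] (hT : PT ρ) {K : Subalgebra k (End k V)}
    (hc : ∀ a ∈ K, ∀ b ∈ K, a * b = b * a) (hn : ∀ h, ∀ a ∈ K, ρ h * a * ρ h⁻¹ ∈ K)
    {a : End k V} (ha : a ∈ K) {v : V} (hv : v ≠ 0) (h : a v = 0) : a = 0 := by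
  have : Finite (End k V) := Finite.of_injective _ DFunLike.coe_injective
  have key : ∀ v w : V, v ≠ 0 → w ≠ 0 → (∀ b ∈ K, b v = 0 → b w = 0) →
      ∀ b ∈ K, b w = 0 → b v = 0 := by
    intro v w hv hw hle b hb e
    obtain ⟨h, c, e1, -⟩ := hT.exists_inv hw hv
    refine ((Set.eq_of_subset_of_ncard_le (s := {b | b ∈ K ∧ b v = 0}) (t := {b | b ∈ K ∧ b w = 0})
      (fun b hb => ⟨hb.1, hle b hb.1 hb.2⟩) (Set.ncard_le_ncard_of_injOn
        (fun b => ρ h * b * ρ h⁻¹) (fun b hb => ⟨hn h b hb.1, ?_⟩) fun b _ b' _ e => ?_)).ge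
      ⟨hb, e⟩).2
    · rw [End.mul_apply, End.mul_apply, e1, map_smul, hb.2, smul_zero, map_zero]
    · ext x
      simpa [inv_apply] using congrArg (fun f => ρ h⁻¹ (f (ρ h x))) e
  have sw : ∀ b ∈ K, ∀ x, b (a x) = a (b x) := fun b hb x => by
    rw [← End.mul_apply, hc b hb a ha, End.mul_apply]
  ext w
  by_contra hw
  have hw0 : w ≠ 0 := by rintro rfl; simp at hw
  have e1 : a (v + w) = a w := by rw [map_add, h, zero_add]
  have h1 : v + w ≠ 0 := fun e => hw (by rw [← e1, e, map_zero]; rfl)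
  refine hw (key w v hw0 hv (fun b hb e => ?_) a ha h)
  have := key (v + w) (a w) h1 hw (fun b hb e => by rw [← e1, sw b hb, e, map_zero]) b hb
    (by rw [sw b hb, e, map_zero])
  rwa [map_add, e, add_zero] at this

variable (ρ B) in
/-- the algebra generated by the image of `B` -/
def alg : Subalgebra k (End k V) := Algebra.adjoin k (ρ '' B)

theorem mem_alg {b : H} (hb : b ∈ B) : ρ b ∈ alg ρ B := Algebra.subset_adjoin ⟨b, hb, rfl⟩

theorem alg_comm (hB : IsMulCommutative B) : ∀ a ∈ alg ρ B, ∀ b ∈ alg ρ B, a * b = b * a := by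
  have := Algebra.isMulCommutative_adjoin k (s := ρ '' B) (by
    rintro _ ⟨a, ha, rfl⟩ _ ⟨b, hb, rfl⟩
    rw [← map_mul, ← map_mul, (PGrp.isMulCommutative_iff_mem.1 hB a ha b hb)])
  exact fun a ha b hb => setLike_mul_comm (s := Algebra.adjoin k (ρ '' B)) ha hb

theorem conj_mul_conj (h : H) (a b : End k V) :
    ρ h * (a * b) * ρ h⁻¹ = ρ h * a * ρ h⁻¹ * (ρ h * b * ρ h⁻¹) := by
  ext x; simp [inv_apply]

theorem conj_mem_alg [hn : B.Normal] (h : H) : ∀ a ∈ alg ρ B, ρ h * a * ρ h⁻¹ ∈ alg ρ B := by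
  intro a ha
  induction ha using Algebra.adjoin_induction with
  | mem _ ha =>
    obtain ⟨b, hb, rfl⟩ := ha
    rw [← map_mul, ← map_mul]
    exact mem_alg (hn.conj_mem b hb h)
  | algebraMap c =>
    rw [← Algebra.commutes, mul_assoc, ← map_mul, mul_inv_cancel, map_one, mul_one]
    exact Subalgebra.algebraMap_mem _ c
  | add _ _ _ _ h1 h2 => rw [mul_add, add_mul]; exact add_mem h1 h2
  | mul _ _ _ _ h1 h2 => rw [conj_mul_conj]; exact mul_mem h1 h2

variable (ρ B) in
/-- the action of `H` on the algebra generated by a normal subgroup -/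
def galHom [B.Normal] : H →* (alg ρ B ≃ₐ[k] alg ρ B) :=
  letI : MulSemiringAction H (alg ρ B) :=
    { smul h a := ⟨ρ h * a.1 * ρ h⁻¹, conj_mem_alg h a.1 a.2⟩
      one_smul a := Subtype.ext (show ρ 1 * a * ρ 1⁻¹ = a by simp)
      mul_smul g h a := Subtype.ext
        (show ρ (g * h) * a * ρ (g * h)⁻¹ = ρ g * (ρ h * a * ρ h⁻¹) * ρ g⁻¹ by simp [mul_assoc])
      smul_zero h := Subtype.ext (show ρ h * 0 * ρ h⁻¹ = 0 by simp)
      smul_add h a b := Subtype.ext (show ρ h * (a + b) * ρ h⁻¹ = ρ h * a * ρ h⁻¹ + ρ h * b * ρ h⁻¹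
        by rw [mul_add, add_mul])
      smul_one h := Subtype.ext (show ρ h * 1 * ρ h⁻¹ = 1 by simp [← map_mul])
      smul_mul h a b := Subtype.ext (conj_mul_conj (ρ := ρ) h a.1 b.1) }
  haveI : SMulCommClass H k (alg ρ B) := ⟨fun h c a => Subtype.ext
    (show ρ h * (c • a.1) * ρ h⁻¹ = c • (ρ h * a * ρ h⁻¹) by simp)⟩
  MulSemiringAction.toAlgAut H k (alg ρ B)

theorem galHom_apply [B.Normal] (h : H) (a : alg ρ B) :
    (galHom ρ B h a : End k V) = ρ h * a * ρ h⁻¹ := rfl

theorem ker_galHom [B.Normal] (inj : Function.Injective ρ) :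
    (galHom ρ B).ker = centralizer (B : Set H) := by
  ext h
  refine ⟨fun e b hb => inj ?_, fun e => AlgEquiv.ext fun ⟨a, ha⟩ => Subtype.ext ?_⟩
  · have := galHom_apply h ⟨_, mem_alg (ρ := ρ) hb⟩
    rw [MonoidHom.mem_ker.1 e] at this
    rw [map_mul, show ρ b = _ from this, ← map_mul, ← map_mul, ← map_mul, inv_mul_cancel_right]
  · have : Commute (ρ h) a := Algebra.commute_of_mem_adjoin_of_forall_mem_commute ha (by
      rintro _ ⟨b, hb, rfl⟩
      exact (show Commute b h from e b hb).symm.map ρ)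
    rw [galHom_apply, this.eq, mul_assoc, ← map_mul, mul_inv_cancel, map_one, mul_one]
    rfl

variable [Finite V] [B.Normal]

theorem PT.isField [Nontrivial V] (hT : PT ρ) (hB : IsMulCommutative B) : IsField (alg ρ B) := by
  have : Finite (End k V) := Finite.of_injective _ DFunLike.coe_injective
  have : NoZeroDivisors (alg ρ B) := ⟨fun {a b} e => by
    by_contra! h
    obtain ⟨v, hv⟩ := DFunLike.ne_iff.1 (mt Subtype.ext h.2)
    exact h.1 (Subtype.ext (hT.eq_zero (alg_comm hB) conj_mem_alg a.2 hv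
      (DFunLike.congr_fun (congrArg Subtype.val e) v)))⟩
  have := NoZeroDivisors.to_isDomain (alg ρ B)
  letI : CommRing (alg ρ B) :=
    { (inferInstance : Ring (alg ρ B)) with
      mul_comm a b := Subtype.ext (alg_comm hB _ a.2 _ b.2) }
  exact Finite.isField_of_domain _

theorem PT.semireg (hT : PT ρ) (inj : Function.Injective ρ) (hB : IsMulCommutative B) {b : H}
    (hb : b ∈ B) {v : V} (hv : v ≠ 0) (e : ρ b v = v) : b = 1 :=
  inj ((sub_eq_zero.1 (hT.eq_zero (alg_comm hB) conj_mem_alg (sub_mem (mem_alg hb) (one_mem _)) hv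
    (sub_eq_zero.2 e))).trans (map_one ρ).symm)

theorem PT.isCyclic [Nontrivial V] [Finite H] (hT : PT ρ) (inj : Function.Injective ρ)
    (hB : IsMulCommutative B) : IsCyclic B := by
  letI := (hT.isField hB).toField
  exact isCyclic_of_injective_ringHom
    ((ρ.comp B.subtype).codRestrict (alg ρ B) fun b => mem_alg b.2)
    fun a b e => Subtype.ext (inj (congrArg Subtype.val e))

theorem PT.index_dvd [Nontrivial V] (hT : PT ρ) (inj : Function.Injective ρ)
    (hB : IsMulCommutative B) : (centralizer (B : Set H)).index ∣ finrank k V := by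
  letI := (hT.isField hB).toField
  have : Finite (End k V) := Finite.of_injective _ DFunLike.coe_injective
  rw [← ker_galHom inj, index_ker, ← finrank_mul_finrank k (alg ρ B) V,
    ← IsGalois.card_aut_eq_finrank]
  exact (card_subgroup_dvd_card _).mul_right _

theorem PT.orderOf_dvd [Nontrivial V] (hT : PT ρ) (inj : Function.Injective ρ)
    (hB : IsMulCommutative B) {b : H} (hb : b ∈ B) : orderOf b ∣ Nat.card V - 1 := by
  letI := (hT.isField hB).toField
  have : Finite (End k V) := Finite.of_injective _ DFunLike.coe_injective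
  have := Fintype.ofFinite (alg ρ B)
  rw [natCard_eq_pow_finrank (K := alg ρ B), Nat.card_eq_fintype_card]
  refine (orderOf_dvd_of_pow_eq_one (inj ?_)).trans (Nat.sub_one_dvd_pow_sub_one _ _)
  rw [map_pow, map_one]
  refine congrArg Subtype.val (FiniteField.pow_card_sub_one_eq_one (⟨_, mem_alg hb⟩ : alg ρ B) ?_)
  obtain ⟨v, hv⟩ := exists_ne (0 : V)
  exact fun e => hv (by rw [← apply_inv (ρ := ρ) b v, show ρ b = 0 from congrArg Subtype.val e]; rfl)

end Cfsg.Agent.Lin1
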